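import Mathlib
import Groth.Agent.AssSupLib.Support
import Groth.Agent.HSLib.Dim
import Groth.Agent.S5770
import Groth.Agent.CMSeqLib.Basic

/-!
Dimension of `N ⊗ M` for a flat `N` over a local homomorphism (EGA IV 6.1.2).
-/

universe u

set_option backward.isDefEq.respectTransparency false

namespace Groth.Agent.FlatTensorDimLib

open IsLocalRing TensorProduct

variable {A B : Type u} [CommRing A] [CommRing B] [Algebra A B]
  {N : Type u} [AddCommGroup N] [Module B N] [Module A N] [IsScalarTower A B N] [Module.Finite B N]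

theorem mem_support_tensor_iff {R : Type u} [CommRing R] {P P' : Type u} [AddCommGroup P] [Module R P]
    [Module.Finite R P] [AddCommGroup P'] [Module R P'] [Module.Finite R P'] (Q : PrimeSpectrum R) :
    Q ∈ Module.support R (P ⊗[R] P') ↔ Q ∈ Module.support R P ∧ Q ∈ Module.support R P' := by
  rw [Module.mem_support_iff_nontrivial_residueField_tensorProduct,
    Module.mem_support_iff_nontrivial_residueField_tensorProduct,
    Module.mem_support_iff_nontrivial_residueField_tensorProduct]
  let K := Q.asIdeal.ResidueField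
  let e : K ⊗[R] (P ⊗[R] P') ≃ₗ[R] (K ⊗[R] P) ⊗[K] (K ⊗[R] P') :=
    (TensorProduct.assoc R K P P').symm ≪≫ₗ
      ((AlgebraTensorModule.cancelBaseChange R K K (K ⊗[R] P) P').symm.restrictScalars R)
  constructor
  · intro h
    haveI := h
    haveI : Nontrivial ((K ⊗[R] P) ⊗[K] (K ⊗[R] P')) := e.symm.toEquiv.nontrivial
    exact ⟨not_subsingleton_iff_nontrivial.1 fun hs => not_subsingleton ((K ⊗[R] P) ⊗[K] (K ⊗[R] P')) inferInstance,
      not_subsingleton_iff_nontrivial.1 fun hs => not_subsingleton ((K ⊗[R] P) ⊗[K] (K ⊗[R] P')) inferInstance⟩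
  · rintro ⟨h1, h2⟩
    haveI := h1
    haveI := h2
    exact e.toEquiv.nontrivial

/-- The support of `N ⊗ M`. -/
theorem mem_support_iff (M : Type u) [AddCommGroup M] [Module A M] [Module.Finite A M] (Q : PrimeSpectrum B) :
    Q ∈ Module.support B (N ⊗[A] M) ↔
      Q ∈ Module.support B N ∧ PrimeSpectrum.comap (algebraMap A B) Q ∈ Module.support A M := by
  rw [← (AlgebraTensorModule.cancelBaseChange A B B N M).support_eq, mem_support_tensor_iff,
    AssSupLib.support_baseChange, PrimeSpectrum.mem_zeroLocus, SetLike.coe_subset_coe,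
    Ideal.map_le_iff_le_comap, Module.mem_support_iff_of_finite (R := A)]
  rfl

theorem mem_support_quot (I : Ideal B) (Q : PrimeSpectrum B) :
    Q ∈ Module.support B (N ⧸ (I • ⊤ : Submodule B N)) ↔ Q ∈ Module.support B N ∧ I ≤ Q.asIdeal := by
  rw [Module.support_quotient, Set.mem_inter_iff, PrimeSpectrum.mem_zeroLocus, SetLike.coe_subset_coe]

/-- Going down for the support of a flat module. -/
theorem exists_le_mem_support [IsNoetherianRing B] [Module.Flat A N] (Q : PrimeSpectrum B)
    (hQ : Q ∈ Module.support B N) (p : Ideal A) [p.IsPrime] (hp : p ≤ Q.asIdeal.comap (algebraMap A B)) :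
    ∃ Q' ≤ Q, Q' ∈ Module.support B N ∧ Q'.asIdeal.comap (algebraMap A B) = p := by
  let P := N ⧸ (p.map (algebraMap A B) • ⊤ : Submodule B N)
  have hQP : Q ∈ Module.support B P :=
    (mem_support_quot _ Q).2 ⟨hQ, Ideal.map_le_iff_le_comap.2 hp⟩
  obtain ⟨q, hq, hqle⟩ := Ideal.exists_minimalPrimes_le (Module.mem_support_iff_of_finite.1 hQP)
  haveI := hq.isPrime
  have hqP : (⟨q, hq.isPrime⟩ : PrimeSpectrum B) ∈ Module.support B P :=
    Module.mem_support_iff_of_finite.2 hq.1.2
  obtain ⟨hqN, hqp⟩ := (mem_support_quot _ _).1 hqP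
  refine ⟨⟨q, hq.isPrime⟩, hqle, hqN, le_antisymm (fun s hs => ?_) (Ideal.map_le_iff_le_comap.1 hqp)⟩
  by_contra hsp
  have hass := Module.associatedPrimes.minimalPrimes_annihilator_subset_associatedPrimes B P hq
  have hreg : IsSMulRegular P (algebraMap A B s) := by
    have hinj : Function.Injective ((LinearMap.lsmul A (A ⧸ p) s).lTensor N) :=
      Module.Flat.lTensor_preserves_injective_linearMap _ fun x y hxy => by
        obtain ⟨x, rfl⟩ := Ideal.Quotient.mk_surjective x
        obtain ⟨y, rfl⟩ := Ideal.Quotient.mk_surjective y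
        rw [LinearMap.lsmul_apply, LinearMap.lsmul_apply, Algebra.smul_def, Algebra.smul_def,
          Ideal.Quotient.algebraMap_eq, ← map_mul, ← map_mul, Ideal.Quotient.eq, ← mul_sub] at hxy
        exact Ideal.Quotient.eq.2 ((Ideal.IsPrime.mem_or_mem ‹_› hxy).resolve_left hsp)
    let e : N ⊗[A] (A ⧸ p) ≃ₗ[A] P :=
      TensorProduct.tensorQuotEquivQuotSMul N p ≪≫ₗ
        (Submodule.quotEquivOfEq _ ((p.map (algebraMap A B) • ⊤ : Submodule B N).restrictScalars A)
          (by rw [Submodule.restrictScalars_map_smul_eq, Submodule.restrictScalars_top])) ≪≫ₗ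
        Submodule.Quotient.restrictScalarsEquiv A _
    intro x y hxy
    obtain ⟨x, rfl⟩ := e.surjective x
    obtain ⟨y, rfl⟩ := e.surjective y
    simp only [algebraMap_smul, ← map_smul] at hxy
    have hl : ∀ z : N ⊗[A] (A ⧸ p), (LinearMap.lsmul A (A ⧸ p) s).lTensor N z = s • z := fun z => by
      induction z with
      | zero => simp
      | tmul a b => simp [TensorProduct.tmul_smul]
      | add a b ha hb => rw [map_add, ha, hb, smul_add]
    exact congrArg e (hinj ((hl x).trans ((e.injective hxy).trans (hl y).symm)))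
  have hmem : algebraMap A B s ∈ ⋃ r ∈ associatedPrimes B P, (r : Set B) := Set.mem_biUnion hass hs
  rw [biUnion_associatedPrimes_eq_compl_regular B P] at hmem
  exact hmem hreg

theorem exists_lift [IsNoetherianRing B] [Module.Flat A N] (l : LTSeries (PrimeSpectrum A)) :
    ∀ Q : PrimeSpectrum B, Q ∈ Module.support B N → PrimeSpectrum.comap (algebraMap A B) Q = l.last →
      ∃ L : LTSeries (PrimeSpectrum B), L.length = l.length ∧ L.last = Q ∧ L.head ∈ Module.support B N ∧
        PrimeSpectrum.comap (algebraMap A B) L.head = l.head := by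
  induction l using RelSeries.inductionOn with
  | singleton q =>
    intro Q hQ h
    exact ⟨RelSeries.singleton _ Q, rfl, RelSeries.last_singleton _, by simpa using hQ, by simpa using h⟩
  | cons l q lt ih =>
    intro Q hQ h
    rw [RelSeries.last_cons] at h
    obtain ⟨L, hlen, hlast, hhead, hcomap⟩ := ih Q hQ h
    have hlt : q < l.head := lt
    have hle : q.asIdeal ≤ L.head.asIdeal.comap (algebraMap A B) := by
      rw [← PrimeSpectrum.comap_asIdeal, hcomap]
      exact hlt.le
    obtain ⟨Q', hQ'le, hQ'N, hQ'q⟩ := exists_le_mem_support L.head hhead q.asIdeal hle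
    have hne : Q' ≠ L.head := fun he => by
      rw [he, ← PrimeSpectrum.comap_asIdeal, hcomap] at hQ'q
      exact hlt.ne (PrimeSpectrum.ext hQ'q.symm)
    exact ⟨L.cons Q' (lt_of_le_of_ne hQ'le hne), by simp [hlen], by rw [RelSeries.last_cons, hlast],
      by simpa using hQ'N, by simpa using PrimeSpectrum.ext hQ'q⟩

theorem exists_max_chain {R : Type u} [CommRing R] {P : Type u} [AddCommGroup P] [Module R P] [Nontrivial P]
    {d : ℕ} (hd : Module.supportDim R P = (d : WithBot ℕ∞)) :
    ∃ l : LTSeries (PrimeSpectrum R), l.head ∈ Module.support R P ∧ l.length = d := by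
  by_contra hc
  push Not at hc
  have hle : ∀ l : LTSeries (PrimeSpectrum R), l.head ∈ Module.support R P → l.length ≤ d :=
    HSLib.supportDim_le_iff.1 hd.le
  rcases Nat.eq_zero_or_pos d with h0 | hpos
  · obtain ⟨p, hp⟩ := Module.nonempty_support_of_nontrivial (R := R) (M := P)
    exact hc (RelSeries.singleton _ p) (by simpa using hp) (by simp [h0])
  · have h3 : Module.supportDim R P ≤ ((d - 1 : ℕ) : WithBot ℕ∞) :=
      HSLib.supportDim_le_iff.2 fun l hl => by
        have := hle l hl; have := hc l hl; omega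
    rw [hd] at h3
    norm_cast at h3
    omega

variable [IsLocalRing A] [IsLocalRing B] [IsNoetherianRing A] [IsNoetherianRing B] [IsLocalHom (algebraMap A B)]

/-- `dim (N ⊗ M) = dim M + dim (N/mN)` for `N` flat over `A`. -/
theorem supportDim_tensor_eq (M : Type u) [AddCommGroup M] [Module A M] [Module.Finite A M] [Nontrivial M]
    [Nontrivial N] [Module.Flat A N] :
    Module.supportDim B (N ⊗[A] M) = Module.supportDim A M +
      Module.supportDim B (N ⧸ ((maximalIdeal A).map (algebraMap A B) • (⊤ : Submodule B N))) := by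
  refine le_antisymm (S5770.result A B M N) ?_
  set mB := (maximalIdeal A).map (algebraMap A B)
  haveI : Nontrivial (N ⧸ (mB • ⊤ : Submodule B N)) := Submodule.Quotient.nontrivial_iff.2 fun htop =>
    Submodule.top_ne_ideal_smul_of_le_jacobson_annihilator (M := N) (I := mB)
      ((IsLocalRing.map_maximalIdeal_le (algebraMap A B)).trans (IsLocalRing.maximalIdeal_le_jacobson _)) htop.symm
  obtain ⟨d, hd⟩ := CMSeqLib.exists_supportDim_eq (A := A) M
  obtain ⟨e, he⟩ := CMSeqLib.exists_supportDim_eq (A := B) (N ⧸ (mB • ⊤ : Submodule B N))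
  obtain ⟨l, hl, hlen⟩ := exists_max_chain hd
  obtain ⟨F, hF, hFlen⟩ := exists_max_chain he
  have hlast : l.last.asIdeal = maximalIdeal A := by
    by_contra hne
    have hlt : l.last < ⟨maximalIdeal A, inferInstance⟩ :=
      lt_of_le_of_ne (le_maximalIdeal l.last.isPrime.ne_top) fun h => hne (congrArg PrimeSpectrum.asIdeal h)
    have := HSLib.supportDim_le_iff.1 hd.le (l.snoc _ hlt) (by simpa using hl)
    simp [hlen] at this
  obtain ⟨hFN, hFm⟩ := (mem_support_quot mB F.head).1 hF
  have hcomap : PrimeSpectrum.comap (algebraMap A B) F.head = l.last := PrimeSpectrum.ext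
    (((IsLocalRing.maximalIdeal.isMaximal A).eq_of_le (Ideal.IsPrime.comap _).ne_top
      (Ideal.map_le_iff_le_comap.1 hFm)).symm.trans hlast.symm)
  obtain ⟨L, hLlen, hLlast, hLhead, hLcomap⟩ := exists_lift (N := N) l F.head hFN hcomap
  have := HSLib.le_supportDim_of_chain (M := N ⊗[A] M) (RelSeries.smash L F hLlast)
    ((mem_support_iff M _).2 ⟨by rw [RelSeries.head_smash]; exact hLhead,
      by rw [RelSeries.head_smash, hLcomap]; exact hl⟩)
  rw [RelSeries.smash_length, hLlen, hlen, hFlen, Nat.cast_add, ← hd, ← he] at this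
  exact this

end Groth.Agent.FlatTensorDimLib
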